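import Mathlib.AlgebraicGeometry.Morphisms.UniversallyInjective
import Mathlib.AlgebraicGeometry.FunctionField
import Mathlib.AlgebraicGeometry.Morphisms.FiniteType
import Mathlib.FieldTheory.PurelyInseparable.Basic
import Mathlib.FieldTheory.IsAlgClosed.AlgebraicClosure
import Mathlib.FieldTheory.IntermediateField.Adjoin.Algebra
import Groth.Agent.Sga3C.DimTop
import Groth.Agent.Dix.ContractSurf

/-!
# Universally injective morphisms and purely inseparable function field extensions (K327)
-/

set_option autoImplicit false
universe u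

open CategoryTheory CategoryTheory.Limits AlgebraicGeometry

namespace K327.GenInsep

theorem universallyInjective_specMap (k k' : Type u) [Field k] [Field k'] [Algebra k k']
    [IsPurelyInseparable k k'] : UniversallyInjective (Spec.map (CommRingCat.ofHom (algebraMap k k'))) := by
  refine ((tfae_universallyInjective (Spec.map (CommRingCat.ofHom (algebraMap k k')))).out 0 1).2 ?_
  intro L _ g₁ g₂ h
  obtain ⟨φ₁, rfl⟩ := Spec.map_surjective g₁
  obtain ⟨φ₂, rfl⟩ := Spec.map_surjective g₂
  have h2 : CommRingCat.ofHom (algebraMap k k') ≫ φ₁ = CommRingCat.ofHom (algebraMap k k') ≫ φ₂ := by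
    apply Spec.map_injective
    rw [Spec.map_comp, Spec.map_comp]
    exact h
  have h3 : φ₁.hom = φ₂.hom := IsPurelyInseparable.injective_comp_algebraMap k k' L
    (congrArg CommRingCat.Hom.hom h2)
  rw [CommRingCat.hom_ext h3]

theorem isPurelyInseparable_of_specMap (k k' : Type u) [Field k] [Field k'] [Algebra k k']
    [UniversallyInjective (Spec.map (CommRingCat.ofHom (algebraMap k k')))] : IsPurelyInseparable k k' := by
  have hne : Nonempty (k' →+* AlgebraicClosure k') := ⟨algebraMap k' (AlgebraicClosure k')⟩
  refine IsPurelyInseparable.of_injective_comp_algebraMap k k' (AlgebraicClosure k') ?_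
  intro φ₁ φ₂ h
  have h0 : ∀ (L : Type u) [Field L], Function.Injective (fun g : Spec (.of L) ⟶ Spec (CommRingCat.of k') ↦
      g ≫ Spec.map (CommRingCat.ofHom (algebraMap k k'))) :=
    ((tfae_universallyInjective (Spec.map (CommRingCat.ofHom (algebraMap k k')))).out 0 1).1 ‹_›
  have h1 := h0 (AlgebraicClosure k')
  have h2 : Spec.map (CommRingCat.ofHom φ₁) ≫ Spec.map (CommRingCat.ofHom (algebraMap k k')) =
      Spec.map (CommRingCat.ofHom φ₂) ≫ Spec.map (CommRingCat.ofHom (algebraMap k k')) := by
    rw [← Spec.map_comp, ← Spec.map_comp, ← CommRingCat.ofHom_comp, ← CommRingCat.ofHom_comp]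
    exact congrArg (fun φ => Spec.map (CommRingCat.ofHom φ)) h
  have h3 := Spec.map_injective (h1 h2)
  exact congrArg CommRingCat.Hom.hom h3

theorem finite_of_essFiniteType (k k' : Type u) [Field k] [Field k'] [Algebra k k']
    [Algebra.EssFiniteType k k'] [Algebra.IsAlgebraic k k'] : FiniteDimensional k k' := by
  obtain ⟨s, hs⟩ := IntermediateField.fg_top k k'
  have h1 : FiniteDimensional k (IntermediateField.adjoin k (s : Set k')) :=
    IntermediateField.finiteDimensional_adjoin fun x _ => Algebra.IsIntegral.isIntegral x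
  rw [hs] at h1
  exact IntermediateField.topEquiv.toLinearEquiv.finiteDimensional

/-- An integral scheme, quasi-compact, all of whose closed points have local rings of dimension one. -/
theorem topologicalKrullDim_eq_one (X : Scheme.{u}) [Nonempty X] [CompactSpace X]
    (h : ∀ x : X, IsClosed ({x} : Set X) → ringKrullDim (X.presheaf.stalk x) = 1) :
    topologicalKrullDim X = 1 := by
  rw [Groth.Agent.Dix.ContractSurf.topologicalKrullDim_eq]
  have key : ∀ x : X, ∃ y : X, x ⤳ y ∧ IsClosed ({y} : Set X) := by
    intro x
    obtain ⟨y, hy, hyc⟩ := IsClosed.exists_closed_singleton (isClosed_closure (s := ({x} : Set X)))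
      ⟨x, subset_closure rfl⟩
    exact ⟨y, specializes_iff_mem_closure.2 hy, hyc⟩
  apply le_antisymm
  · refine iSup_le fun x => ?_
    obtain ⟨y, hxy, hy⟩ := key x
    rw [← h y hy, ringKrullDim_stalk_eq_coheight, ringKrullDim_stalk_eq_coheight]
    exact WithBot.coe_le_coe.2 (Order.coheight_anti hxy)
  · obtain ⟨x⟩ : Nonempty X := inferInstance
    obtain ⟨y, -, hy⟩ := key x
    rw [← h y hy]
    exact le_iSup (fun z : X => ringKrullDim (X.presheaf.stalk z)) y

end K327.GenInsep
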