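import Groth.Agent.S16754
import Groth.Agent.S7615
import Groth.Agent.S1414
import Groth.Agent.CurvesC.CurveNum
import Groth.Agent.Flat2B.SmoothGeom
import Mathlib.RingTheory.Etale.Field

/-!
# The field of constants of a smooth proper integral scheme (K327)

`exists_const`: an integral scheme smooth and proper over a field `k` is smooth, proper and geometrically integral
over the finite separable extension `F = Γ(X, O_X)` of `k`.
-/

set_option autoImplicit false
universe u

open CategoryTheory CategoryTheory.Limits AlgebraicGeometry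

namespace K327.ConstField

/-- A morphism to the spectrum of a field, through the global functions. -/
theorem structure_eq {k : Type u} [Field k] {X : Scheme.{u}} (f : X ⟶ Spec (CommRingCat.of k)) :
    X.toSpecΓ ≫ Spec.map ((Scheme.ΓSpecIso (CommRingCat.of k)).inv ≫ f.appTop) = f := by
  have h1 : X.toSpecΓ ≫ Spec.map f.appTop = f ≫ (Spec (CommRingCat.of k)).toSpecΓ :=
    (Scheme.toSpecΓ_naturality f).symm
  have h2 : (Spec (CommRingCat.of k)).toSpecΓ = Spec.map (Scheme.ΓSpecIso (CommRingCat.of k)).hom := by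
    simp
  rw [Spec.map_comp, ← Category.assoc, h1, h2, Category.assoc, ← Spec.map_comp]
  simp

theorem exists_const (k : Type u) [Field k] (X : Scheme.{u}) [IsIntegral X] (f : X ⟶ Spec (CommRingCat.of k))
    [IsProper f] [Smooth f] :
    ∃ (F : Type u) (_ : Field F) (_ : Algebra k F) (_ : FiniteDimensional k F)
      (g : X ⟶ Spec (CommRingCat.of F)), g ≫ Spec.map (CommRingCat.ofHom (algebraMap k F)) = f ∧
        IsProper g ∧ Smooth g ∧ GeometricallyIntegral g := by
  letI : X.Over (Spec (CommRingCat.of k)) := ⟨f⟩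
  have hf : X ↘ Spec (CommRingCat.of k) = f := rfl
  have hp : IsProper (X ↘ Spec (CommRingCat.of k)) := by rw [hf]; infer_instance
  obtain ⟨hfield, hfin, hsep, -⟩ := Groth.Agent.S7615.result k X
  letI fF : Field Γ(X, ⊤) := hfield.toField
  letI alg : Algebra k Γ(X, ⊤) := ((X ↘ (Spec (CommRingCat.of k))).appTop.hom.comp
    (Scheme.ΓSpecIso (CommRingCat.of k)).inv.hom : k →+* Γ(X, ⊤)).toAlgebra
  have hgr : GeometricallyReduced (X ↘ Spec (CommRingCat.of k)) := by
    rw [hf]
    exact Groth.Agent.Flat2B.SmoothGeom.geometricallyReduced_of_smooth f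
  have hs : Algebra.IsSeparable k Γ(X, ⊤) := hsep hgr
  let g : X ⟶ Spec (CommRingCat.of Γ(X, ⊤)) := X.toSpecΓ
  have hg : g ≫ Spec.map (CommRingCat.ofHom (algebraMap k Γ(X, ⊤))) = f := structure_eq f
  have hE : Etale (Spec.map (CommRingCat.ofHom (algebraMap k Γ(X, ⊤)))) := by
    rw [HasRingHomProperty.Spec_iff (P := @Etale)]
    change (algebraMap k Γ(X, ⊤)).Etale
    rw [RingHom.etale_algebraMap]
    have h1 : Algebra.FinitePresentation k Γ(X, ⊤) :=
      Algebra.FinitePresentation.of_finiteType.1 inferInstance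
    exact ⟨Algebra.FormallyEtale.of_isSeparable k Γ(X, ⊤), h1⟩
  have hgs : Smooth g := by
    have : Smooth (g ≫ Spec.map (CommRingCat.ofHom (algebraMap k Γ(X, ⊤)))) := by rw [hg]; infer_instance
    exact Groth.Agent.S1414.result g (Spec.map (CommRingCat.ofHom (algebraMap k Γ(X, ⊤))))
  have hgp : IsProper g := by
    have : IsProper (g ≫ Spec.map (CommRingCat.ofHom (algebraMap k Γ(X, ⊤)))) := by rw [hg]; infer_instance
    exact IsProper.of_comp g (Spec.map (CommRingCat.ofHom (algebraMap k Γ(X, ⊤))))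
  refine ⟨Γ(X, ⊤), fF, alg, hfin, g, hg, hgp, hgs, ?_⟩
  letI o2 : X.Over (Spec (CommRingCat.of Γ(X, ⊤))) := ⟨g⟩
  have hg2 : X ↘ Spec (CommRingCat.of Γ(X, ⊤)) = g := rfl
  have hgs2 : Smooth (X ↘ Spec (CommRingCat.of Γ(X, ⊤))) := hgs
  have hgp2 : IsProper (X ↘ Spec (CommRingCat.of Γ(X, ⊤))) := hgp
  refine Groth.Agent.S16754.geomInt_of_geomConn Γ(X, ⊤) X (Groth.Agent.S16754.geomConn_of_h0 Γ(X, ⊤) X ?_)
  letI := Groth.Agent.CurvesC.CurveNum.topMod Γ(X, ⊤) X
  rw [(Groth.Agent.CurvesC.CurveNum.hZeroTop Γ(X, ⊤) X).finrank_eq]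
  have h1 : ∀ c : Γ(X, ⊤), Coh.toGlobal (X ↘ Spec (CommRingCat.of Γ(X, ⊤))) c = c := by
    intro c
    have h2 : (Scheme.ΓSpecIso Γ(X, ⊤)).inv ≫ X.toSpecΓ.appTop = 𝟙 _ := by
      rw [Scheme.toSpecΓ_appTop]
      simp
    exact congrArg (fun (φ : Γ(X, ⊤) ⟶ Γ(X, ⊤)) => φ.hom c) h2
  let e : Γ(X, ⊤) ≃ₗ[Γ(X, ⊤)] Coh.Γtop X :=
    { toFun := fun x => x
      invFun := fun x => x
      left_inv := fun _ => rfl
      right_inv := fun _ => rfl
      map_add' := fun _ _ => rfl
      map_smul' := fun c x => by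
        have h3 := congrArg (fun (d : Γ(X, ⊤)) => d * x) (h1 c)
        exact h3.symm }
  rw [← e.finrank_eq]
  exact Module.finrank_self _

end K327.ConstField
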