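import Groth.Agent.MultTori.K441.Defs
import Mathlib.RingTheory.AlgebraicIndependent.AlgebraicClosure
import Mathlib.RingTheory.AlgebraicIndependent.TranscendenceBasis
import Mathlib.FieldTheory.IntermediateField.Adjoin.Algebra

/-!
# Transcendence bases over the prime field (K327)

* `Tr_of_isAlgebraic`: `Tr` is preserved by algebraic extensions;
* `exists_base`: a finitely generated field of transcendence degree `n + 1` over its prime field is finitely
  generated of transcendence degree one over a finitely generated field of transcendence degree `n`.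
-/

set_option autoImplicit false
universe u

open Groth.Agent.MultTori.K441

namespace K327.FldTr

/-- The prime field of the prime field. -/
theorem top_eq_bot (K : Type u) [Field K] : (⊤ : Subfield (⊥ : Subfield K)) = ⊥ := by
  rw [eq_bot_iff]
  intro x _
  have h1 : Subfield.map (⊥ : Subfield K).subtype ⊥ = (⊥ : Subfield K) := Subfield.map_bot _
  have h2 : (x : K) ∈ Subfield.map (⊥ : Subfield K).subtype ⊥ := by
    rw [h1]
    exact x.2
  obtain ⟨y, hy, hyx⟩ := h2
  have : y = x := Subtype.ext hyx
  rwa [← this]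

theorem basis_iff_range {k L : Type u} [Field k] [Field L] [Algebra k L] {ι : Type} (x : ι → L)
    (S : Subfield L) (hS : (algebraMap k L).fieldRange = S) :
    IsTranscendenceBasis k x ↔ IsTranscendenceBasis S x := by
  subst hS
  let _ : Algebra k (algebraMap k L).fieldRange := (algebraMap k L).rangeRestrictField.toAlgebra
  have : IsScalarTower k (algebraMap k L).fieldRange L := IsScalarTower.of_algebraMap_eq fun _ => rfl
  have hs : Function.Surjective (algebraMap k (algebraMap k L).fieldRange) := by
    rintro ⟨_, y, rfl⟩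
    exact ⟨y, rfl⟩
  have : Algebra.IsIntegral k (algebraMap k L).fieldRange := Algebra.isIntegral_of_surjective hs
  exact Algebra.IsIntegral.isTranscendenceBasis_iff k (algebraMap k L).fieldRange

theorem basis_iff_bot {k L : Type u} [Field k] [Field L] [Algebra k L] {ι : Type} (x : ι → L)
    (hk : (⊤ : Subfield k) = ⊥) :
    IsTranscendenceBasis k x ↔ IsTranscendenceBasis (⊥ : Subfield L) x := by
  refine basis_iff_range x ⊥ ?_
  rw [RingHom.fieldRange_eq_map, hk, Subfield.map_bot]

theorem Tr_of_isAlgebraic {F₁ F : Type u} [Field F₁] [Field F] [Algebra F₁ F] [Algebra.IsAlgebraic F₁ F]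
    {n : ℕ} (h : Tr F₁ n) : Tr F n := by
  obtain ⟨x, hx⟩ := h
  refine ⟨algebraMap F₁ F ∘ x, ?_⟩
  rw [← basis_iff_bot (k := (⊥ : Subfield F₁)) _ (top_eq_bot F₁)]
  exact hx.algebraMap_comp

theorem essFiniteType_bot (K : Type u) [Field K] : Algebra.EssFiniteType ℤ (⊥ : Subfield K) := by
  rw [Algebra.essFiniteType_iff]
  refine ⟨∅, fun s => ?_⟩
  have h1 : (s : K) ∈ Subfield.closure (∅ : Set K) := by
    rw [Subfield.closure_empty]
    exact s.2
  rw [Subfield.mem_closure_iff] at h1
  obtain ⟨y, hy, z, hz, hyz⟩ := h1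
  rw [Subring.closure_empty] at hy hz
  obtain ⟨a, rfl⟩ := Subring.mem_bot.1 hy
  obtain ⟨b, rfl⟩ := Subring.mem_bot.1 hz
  by_cases hb : (b : K) = 0
  · refine ⟨1, Subalgebra.one_mem _, isUnit_one, ?_⟩
    have h2 : s = 0 := by
      apply Subtype.ext
      rw [← hyz, hb, div_zero]
      rfl
    rw [h2, zero_mul]
    exact Subalgebra.zero_mem _
  · refine ⟨(b : (⊥ : Subfield K)), intCast_mem _ b, ?_, ?_⟩
    · rw [isUnit_iff_ne_zero]
      intro h
      apply hb
      have h3 := congrArg (⊥ : Subfield K).subtype h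
      rwa [map_intCast, map_zero] at h3
    · have h2 : s * (b : (⊥ : Subfield K)) = (a : (⊥ : Subfield K)) := by
        apply Subtype.ext
        push_cast
        rw [← hyz, div_mul_cancel₀ _ hb]
      rw [h2]
      exact intCast_mem _ a

theorem exists_base (K : Type u) [Field K] [Algebra.EssFiniteType ℤ K] (n : ℕ) (hK : Tr K (n + 1)) :
    ∃ (F₁ : Type u) (_ : Field F₁) (_ : Algebra F₁ K) (_ : Algebra.EssFiniteType ℤ F₁),
      Tr F₁ n ∧ Algebra.EssFiniteType F₁ K ∧ Algebra.trdeg F₁ K = 1 := by
  obtain ⟨t, ht⟩ := hK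
  let k₀ := (⊥ : Subfield K)
  let E : IntermediateField k₀ K := IntermediateField.adjoin k₀ (Set.range (t ∘ Fin.succ))
  let t' : Fin n → E := fun i => ⟨t i.succ, IntermediateField.subset_adjoin _ _ ⟨i, rfl⟩⟩
  have hEfg : E.FG := IntermediateField.fg_adjoin_of_finite (Set.finite_range _)
  have hE1 : Algebra.EssFiniteType k₀ E := IntermediateField.essFiniteType_iff.2 hEfg
  have hk₀ : Algebra.EssFiniteType ℤ k₀ := essFiniteType_bot K
  have hE : Algebra.EssFiniteType ℤ E := Algebra.EssFiniteType.comp ℤ k₀ E
  have hEK : Algebra.EssFiniteType E K := Algebra.EssFiniteType.of_comp ℤ E K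
  have hadj : IntermediateField.adjoin k₀ (Set.range t') = ⊤ := by
    apply IntermediateField.map_injective E.val
    rw [IntermediateField.adjoin_map, ← Set.range_comp]
    change IntermediateField.adjoin k₀ (Set.range (t ∘ Fin.succ)) = _
    rw [← AlgHom.fieldRange_eq_map, IntermediateField.fieldRange_val]
  have hind : AlgebraicIndependent k₀ t' := by
    refine AlgebraicIndependent.of_comp E.val ?_
    exact ht.1.comp Fin.succ (Fin.succ_injective n)
  have hbas : IsTranscendenceBasis k₀ t' := by
    rw [hind.isTranscendenceBasis_iff_isAlgebraic, ← IntermediateField.isAlgebraic_adjoin_iff_top, hadj]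
    refine ⟨fun a => ?_⟩
    exact isAlgebraic_algebraMap (⟨a, trivial⟩ : (⊤ : IntermediateField k₀ E))
  refine ⟨E, inferInstance, inferInstance, hE, ?_, hEK, ?_⟩
  · exact ⟨t', (basis_iff_bot t' (top_eq_bot K)).1 hbas⟩
  · have h1 := ht.lift_cardinalMk_eq_trdeg
    have h2 := hbas.lift_cardinalMk_eq_trdeg
    have h3 := trdeg_add_eq k₀ E (A := K)
    rw [← h3, Cardinal.lift_add, ← h2] at h1
    simp only [Cardinal.mk_fin, Cardinal.lift_natCast, Cardinal.lift_uzero] at h1
    rw [Nat.cast_add, Nat.cast_one] at h1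
    exact (Cardinal.eq_of_add_eq_add_left h1 (Cardinal.nat_lt_aleph0 n)).symm

end K327.FldTr
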