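import Groth.Agent.MultTori.K327.GenInsep
import Groth.Agent.MultTori.K327.ConstField
import Groth.Agent.MultTori.K327.FldTr
import Groth.Agent.S2345
import Groth.Agent.S12130
import Groth.Agent.S1585
import Groth.Agent.S2351
import Groth.Agent.Unram17.K135.NormIff
import Groth.Agent.AbVar.K509.Rigid

/-!
# Smooth curve fibration of a finitely generated field (K327)
-/

set_option autoImplicit false
universe u

open CategoryTheory CategoryTheory.Limits AlgebraicGeometry
open Groth.Agent.MultTori.K441

namespace K327.CurveFib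

open K327.GenInsep K327.ConstField K327.FldTr

theorem map_genericPoint {Z X : Scheme.{u}} [IsIntegral Z] [IsIntegral X] (q : Z ⟶ X) [Surjective q] :
    q (genericPoint Z) = genericPoint X := by
  have h1 := (genericPoint_spec Z).image q.continuous
  have h2 : closure (q '' (Set.univ : Set Z)) = (Set.univ : Set X) := by
    rw [Set.image_univ, q.surjective.range_eq, closure_univ]
  rw [h2] at h1
  exact h1.eq (genericPoint_spec X)

theorem ff_universallyInjective {C Z X : Scheme.{u}} [IsIntegral C] [IsIntegral Z] [IsIntegral X]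
    (ν : C ⟶ Z) (q : Z ⟶ X) [IsIso (ν.stalkMap (genericPoint C))] [UniversallyInjective q]
    {K : CommRingCat.{u}} (φ : K ⟶ C.presheaf.stalk (genericPoint C)) (j : Spec K ⟶ X)
    (hφ : Spec.map φ ≫ j = C.fromSpecStalk (genericPoint C) ≫ ν ≫ q) :
    UniversallyInjective (Spec.map φ) := by
  refine ((tfae_universallyInjective (Spec.map φ)).out 0 1).2 ?_
  intro L _ g₁ g₂ h
  have h0 : UniversallyInjective (Spec.map φ ≫ j) := by
    rw [hφ, ← Category.assoc, ← Scheme.SpecMap_stalkMap_fromSpecStalk, Category.assoc]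
    have h3 : UniversallyInjective (Z.fromSpecStalk (ν (genericPoint C))) := inferInstance
    have h4 : UniversallyInjective (Spec.map (ν.stalkMap (genericPoint C))) := inferInstance
    exact MorphismProperty.comp_mem @UniversallyInjective _ _ h4
      (MorphismProperty.comp_mem @UniversallyInjective _ _ h3 ‹_›)
  have h1 : ∀ (L : Type u) [Field L], Function.Injective (fun g : Spec (.of L) ⟶ _ ↦
      g ≫ (Spec.map φ ≫ j)) := ((tfae_universallyInjective (Spec.map φ ≫ j)).out 0 1).1 h0
  refine h1 L ?_
  have h2 : g₁ ≫ Spec.map φ = g₂ ≫ Spec.map φ := h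
  change g₁ ≫ Spec.map φ ≫ j = g₂ ≫ Spec.map φ ≫ j
  rw [← Category.assoc, h2, Category.assoc]

/-- The smooth proper curve over a purely inseparable extension. -/
theorem exists_smooth_model (k : Type u) [Field k] (K : Type u) [Field K] [Algebra k K]
    (hfg : (⊤ : IntermediateField k K).FG) (htr : Algebra.trdeg k K = 1) :
    ∃ (k' : Type u) (_ : Field k') (_ : Algebra k k') (_ : FiniteDimensional k k')
      (C : Scheme.{u}) (_ : IsIntegral C) (f : C ⟶ Spec (CommRingCat.of k'))
      (φ : CommRingCat.of K ⟶ C.presheaf.stalk (genericPoint C)),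
      IsProper f ∧ Smooth f ∧ topologicalKrullDim C = 1 ∧ φ.hom.EssFiniteType ∧
        UniversallyInjective (Spec.map φ) := by
  obtain ⟨X, hXk, hint, hprop, hnorm, hdim, e, he⟩ := Groth.Agent.S2345.result k K hfg htr
  have hcX : CompactSpace X := by
    have : QuasiCompact (X ↘ Spec (CommRingCat.of k)) := inferInstance
    exact HasAffineProperty.iff_of_isAffine.1 this
  have hdX : topologicalKrullDim X = 1 := topologicalKrullDim_eq_one X hdim
  obtain ⟨k', _, _, hfin, hins, hZ, hqc, hqs, hsm⟩ := Groth.Agent.S12130.result k X hdX.le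
  let Z := (Curv2.bc k X k').nilradical.subscheme
  let i : Z ⟶ Curv2.bc k X k' := (Curv2.bc k X k').nilradical.subschemeι
  let p : Curv2.bc k X k' ⟶ X := Curv2.bcFst k X k'
  let fZ : Z ⟶ Spec (CommRingCat.of k') := i ≫ Curv2.bcSnd k X k'
  let _ : Z.Over (Spec (CommRingCat.of k')) := ⟨fZ⟩
  have hlf : LocallyOfFiniteType (Z ↘ Spec (CommRingCat.of k')) := inferInstanceAs (LocallyOfFiniteType fZ)
  have h1 := Groth.Agent.S1585.result k' Z
  obtain ⟨hνf, hνd, -, hCi', hCn⟩ := h1
  obtain ⟨hCi, hνη, hνi⟩ := Groth.Agent.Unram17.K135.NormIff.normalizationι_birational Z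
  obtain ⟨-, -, hνs, -⟩ := Groth.Agent.S2351.result Z
  let C := Curv2.normalization Z
  let ν : C ⟶ Z := Curv2.normalizationι Z
  let q : Z ⟶ X := i ≫ p
  have hνf' : IsFinite ν := hνf
  have hνs' : Surjective ν := hνs
  have hi1 : Surjective i := K509.Rigid.surjective_nilradical _
  have hi2 : IsClosedImmersion i := inferInstance
  have hsp : IsFinite (Spec.map (CommRingCat.ofHom (algebraMap k k'))) :=
    (IsFinite.SpecMap_iff _).2 (RingHom.finite_algebraMap.2 hfin)
  have hss : Surjective (Spec.map (CommRingCat.ofHom (algebraMap k k'))) := by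
    refine ⟨fun y => ?_⟩
    obtain ⟨z⟩ : Nonempty (Spec (CommRingCat.of k')) := inferInstance
    exact ⟨z, Subsingleton.elim _ _⟩
  have hsu : UniversallyInjective (Spec.map (CommRingCat.ofHom (algebraMap k k'))) :=
    universallyInjective_specMap k k'
  have hp1 : IsFinite p := MorphismProperty.pullback_fst _ _ hsp
  have hp2 : Surjective p := MorphismProperty.pullback_fst _ _ hss
  have hp3 : UniversallyInjective p := MorphismProperty.pullback_fst _ _ hsu
  have hq1 : IsFinite q := inferInstanceAs (IsFinite (i ≫ p))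
  have hq2 : Surjective q := inferInstanceAs (Surjective (i ≫ p))
  have hq3 : UniversallyInjective q := MorphismProperty.comp_mem @UniversallyInjective _ _ inferInstance hp3
  let h : C ⟶ X := ν ≫ q
  have hh1 : IsFinite h := inferInstanceAs (IsFinite (ν ≫ q))
  have hh2 : Surjective h := inferInstanceAs (Surjective (ν ≫ q))
  have hhη : h (genericPoint C) = genericPoint X := map_genericPoint h
  have hsp : h (genericPoint C) ⤳ genericPoint X := by rw [hhη]
  let φ : CommRingCat.of K ⟶ C.presheaf.stalk (genericPoint C) :=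
    CommRingCat.ofHom e.symm.toRingHom ≫ X.presheaf.stalkSpecializes hsp ≫ h.stalkMap (genericPoint C)
  let j : Spec (CommRingCat.of K) ⟶ X := Spec.map (CommRingCat.ofHom e.toRingHom) ≫ X.fromSpecStalk (genericPoint X)
  have hφ : Spec.map φ ≫ j = C.fromSpecStalk (genericPoint C) ≫ ν ≫ q := by
    have h2 : CommRingCat.ofHom e.toRingHom ≫ CommRingCat.ofHom e.symm.toRingHom = 𝟙 _ := by
      ext x
      exact e.symm_apply_apply x
    have h3 : Spec.map φ ≫ Spec.map (CommRingCat.ofHom e.toRingHom) =
        Spec.map (h.stalkMap (genericPoint C)) ≫ Spec.map (X.presheaf.stalkSpecializes hsp) := by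
      rw [← Spec.map_comp, ← Spec.map_comp]
      simp only [φ]
      rw [← Category.assoc, h2, Category.id_comp]
    rw [← Category.assoc, h3, Category.assoc, Scheme.SpecMap_stalkSpecializes_fromSpecStalk,
      Scheme.SpecMap_stalkMap_fromSpecStalk]
  refine ⟨k', inferInstance, inferInstance, hfin, C, hCi, ν ≫ fZ, φ, ?_, hsm, ?_, ?_, ?_⟩
  · have h4 : IsProper (X ↘ Spec (CommRingCat.of k)) := hprop
    have h5 : IsProper (Curv2.bcSnd k X k') := MorphismProperty.pullback_snd _ _ h4
    exact inferInstanceAs (IsProper (ν ≫ i ≫ Curv2.bcSnd k X k'))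
  · rw [← hdX]
    exact Groth.Agent.Sga3C.DimTop.topologicalKrullDim_eq_of_isIntegralHom h
  · have h4 : (h.stalkMap (genericPoint C)).hom.EssFiniteType := LocallyOfFiniteType.stalkMap h _
    have h5 : IsIso (X.presheaf.stalkSpecializes hsp) :=
      inferInstanceAs (IsIso (X.presheaf.stalkCongr (.of_eq hhη.symm)).hom)
    have h6 : (X.presheaf.stalkSpecializes hsp).hom.EssFiniteType :=
      (RingHom.FiniteType.of_surjective _ (ConcreteCategory.bijective_of_isIso
        (X.presheaf.stalkSpecializes hsp)).2).essFiniteType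
    have h7 : (e.symm.toRingHom).EssFiniteType :=
      (RingHom.FiniteType.of_surjective _ e.symm.surjective).essFiniteType
    exact (h7.comp h6).comp h4
  · exact ff_universallyInjective ν q φ j hφ

/-- Smooth curve fibration of a finitely generated field, up to a finite purely inseparable extension. -/
theorem exists_curve (K : Type u) [Field K] [Algebra.EssFiniteType ℤ K] (n : ℕ) (hK : Tr K (n + 1)) :
    ∃ (K' : Type u) (_ : Field K') (_ : Algebra K K') (_ : FiniteDimensional K K')
      (_ : IsPurelyInseparable K K') (F : Type u) (_ : Field F) (_ : Algebra F K')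
      (_ : Algebra.EssFiniteType ℤ F) (_ : Tr F n) (C : Over (Spec (CommRingCat.of F)))
      (_ : Curve.IsSmoothProperCurve F C.left C.hom) (_ : GeometricallyIntegral C.hom)
      (_ : IsIntegral C.left), IsFF F C K' := by
  obtain ⟨F₁, _, _, hF₁, hTr, hE, htr⟩ := exists_base K n hK
  obtain ⟨k', _, _, hfin, C, hCi, f, φ, hfp, hfs, hdim, hφe, hφu⟩ :=
    exists_smooth_model F₁ K (IntermediateField.fg_top F₁ K) htr
  obtain ⟨F, _, _, hFfin, g, hg, hgp, hgs, hgi⟩ := exists_const k' C f
  have hk'E : Algebra.EssFiniteType ℤ k' := Algebra.EssFiniteType.comp ℤ F₁ k'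
  have hFE : Algebra.EssFiniteType ℤ F := Algebra.EssFiniteType.comp ℤ k' F
  have hk'T : Tr k' n := Tr_of_isAlgebraic (F₁ := F₁) hTr
  have hFT : Tr F n := Tr_of_isAlgebraic (F₁ := k') hk'T
  let K' : Type u := C.functionField
  let fK' : Field K' := inferInstanceAs (Field C.functionField)
  let aK : Algebra K K' := φ.hom.toAlgebra
  have hu : UniversallyInjective (Spec.map (CommRingCat.ofHom (algebraMap K K'))) := hφu
  have hpi : IsPurelyInseparable K K' := isPurelyInseparable_of_specMap K K'
  have he : Algebra.EssFiniteType K K' := hφe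
  have hfd : FiniteDimensional K K' := finite_of_essFiniteType K K'
  obtain ⟨ψ, hψ⟩ := Spec.map_surjective (C.fromSpecStalk (genericPoint C) ≫ g)
  let aF : Algebra F K' := ψ.hom.toAlgebra
  refine ⟨K', fK', aK, hfd, hpi, F, inferInstance, aF, hFE, hFT, Over.mk g, ⟨hgp, hgs, hCi, hdim⟩, hgi, hCi,
    Iso.refl _, ?_⟩
  change Spec.map (𝟙 _) ≫ C.fromSpecStalk (genericPoint C) ≫ g = Spec.map ψ
  rw [Spec.map_id, Category.id_comp, hψ]

end K327.CurveFib
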